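import Groth.Prelude.Def_AlgSpRep
import Mathlib.CategoryTheory.Limits.Types.Pullbacks
import Mathlib.CategoryTheory.Limits.Types.Filtered
import Mathlib.CategoryTheory.Filtered.Final

/-!
# Relatively limit preserving maps of presheaves

The characterisation by cartesian squares of colimits, and the formal consequences
(composition, cancellation, base change).
-/

set_option autoImplicit false
universe u
open CategoryTheory CategoryTheory.Limits AlgebraicGeometry Opposite AlgSp

namespace Groth.Agent.AlgSpRelLim

variable {S : Scheme.{u}}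

section
variable {F G : PSp S} (a : F ⟶ G)

/-- The square of colimits attached to a cone. -/
abbrev Sq {I : Type u} [SmallCategory I] (D : I ⥤ Over S) (c : Cone D) : Prop :=
  IsPullback (colimMap (Functor.whiskerLeft D.op a)) (colimit.desc (D.op ⋙ F) (F.mapCocone c.op))
    (colimit.desc (D.op ⋙ G) (G.mapCocone c.op)) (a.app (op c.pt))

theorem colimMap_ι_apply {I : Type u} [SmallCategory I] (D : I ⥤ Over S) (i : Iᵒᵖ)
    (x : (D.op ⋙ F).obj i) :
    colimMap (Functor.whiskerLeft D.op a) (colimit.ι (D.op ⋙ F) i x) =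
      colimit.ι (D.op ⋙ G) i (a.app (D.op.obj i) x) :=
  ConcreteCategory.congr_hom (ι_colimMap (Functor.whiskerLeft D.op a) i) x

theorem desc_ι_apply (F : PSp S) {I : Type u} [SmallCategory I] (D : I ⥤ Over S) (c : Cone D)
    (i : Iᵒᵖ) (x : (D.op ⋙ F).obj i) :
    colimit.desc (D.op ⋙ F) (F.mapCocone c.op) (colimit.ι (D.op ⋙ F) i x) =
      F.map (c.π.app i.unop).op x :=
  ConcreteCategory.congr_hom (colimit.ι_desc (F.mapCocone c.op) i) x

theorem sq_comm {I : Type u} [SmallCategory I] (D : I ⥤ Over S) (c : Cone D) :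
    colimMap (Functor.whiskerLeft D.op a) ≫ colimit.desc (D.op ⋙ G) (G.mapCocone c.op) =
      colimit.desc (D.op ⋙ F) (F.mapCocone c.op) ≫ a.app (op c.pt) := by
  refine colimit.hom_ext fun i => ?_
  rw [ι_colimMap_assoc, colimit.ι_desc, colimit.ι_desc_assoc]
  exact (a.naturality _).symm

/-- Cartesian squares of colimits imply relatively limit preserving. -/
theorem of_sq (h : ∀ ⦃I : Type u⦄ [SmallCategory I] [IsCofiltered I] (D : I ⥤ Over S) (c : Cone D),
    IsLimit ((Over.forget S).mapCone c) → (∀ i, IsAffine (D.obj i).left) → IsAffine c.pt.left →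
      Sq a D c) : IsRelLimitPreserving a := by
  intro T y I _ _ D c hc hD hT
  let D' : I ⥤ Over S := D ⋙ Over.map T.hom
  let c' : Cone D' := (Over.map T.hom).mapCone c
  have hc' : IsLimit ((Over.forget S).mapCone c') := hc
  have hsq := h D' c' hc' hD hT
  obtain ⟨-, hinj, hsurj⟩ := (Types.isPullback_iff _ _ _ _).mp hsq
  refine ⟨Types.FilteredColimit.isColimitOf _ _ ?_ ?_⟩
  · intro x
    obtain ⟨i₀⟩ := (IsCofiltered.nonempty : Nonempty I)
    let z : (D'.op ⋙ G).obj (op i₀) := G.map (overHom T (D.obj i₀)).op y
    obtain ⟨p, hp1, hp2⟩ := hsurj (colimit.ι (D'.op ⋙ G) (op i₀) z) x.1 (by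
      rw [desc_ι_apply]
      refine Eq.trans ?_ x.2.symm
      change G.map _ (G.map _ y) = _
      rw [← Functor.map_comp_apply, ← op_comp]
      erw [map_comp_overHom]
      rfl)
    obtain ⟨j, w, rfl⟩ := Types.jointly_surjective' p
    rw [colimMap_ι_apply] at hp1
    rw [desc_ι_apply] at hp2
    obtain ⟨k, f, g, hfg⟩ := (Types.FilteredColimit.colimit_eq_iff (D'.op ⋙ G)).mp hp1
    refine ⟨k, ⟨(D'.op ⋙ F).map f w, ?_⟩, ?_⟩
    · refine (NatTrans.naturality_apply a (D'.op.map f) w).trans ?_
      refine hfg.trans ?_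
      change G.map _ (G.map _ y) = G.map _ y
      rw [← Functor.map_comp_apply]
      congr 2
      refine congrArg _ (Quiver.Hom.unop_inj ?_)
      exact map_comp_overHom T (D.map g.unop)
    · apply Subtype.ext
      refine hp2.symm.trans ?_
      change _ = F.map _ (F.map _ w)
      rw [← Functor.map_comp_apply]
      congr 2
      refine congrArg _ (Quiver.Hom.unop_inj ?_)
      exact (c'.w f.unop).symm
  · intro i j xi xj hij
    have he : colimit.ι (D'.op ⋙ F) i xi.1 = colimit.ι (D'.op ⋙ F) j xj.1 := by
      refine hinj _ _ ⟨?_, ?_⟩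
      · rw [colimMap_ι_apply, colimMap_ι_apply, Types.FilteredColimit.colimit_eq_iff]
        refine ⟨IsFiltered.max i j, IsFiltered.leftToMax i j, IsFiltered.rightToMax i j, ?_⟩
        change G.map _ (a.app _ xi.1) = G.map _ (a.app _ xj.1)
        erw [xi.2, xj.2]
        rw [← Functor.map_comp_apply, ← Functor.map_comp_apply]
        congr 2
        refine congrArg _ (Quiver.Hom.unop_inj ?_)
        exact (map_comp_overHom T _).trans (map_comp_overHom T _).symm
      · rw [desc_ι_apply, desc_ι_apply]
        exact congrArg Subtype.val hij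
    obtain ⟨k, f, g, hfg⟩ := (Types.FilteredColimit.colimit_eq_iff (D'.op ⋙ F)).mp he
    exact ⟨k, f, g, Subtype.ext hfg⟩

/-- Relatively limit preserving implies cartesian squares of colimits. -/
theorem sq_of (h : IsRelLimitPreserving a) {I : Type u} [SmallCategory I] [IsCofiltered I]
    (D : I ⥤ Over S) (c : Cone D) (hc : IsLimit ((Over.forget S).mapCone c))
    (hD : ∀ i, IsAffine (D.obj i).left) (hT : IsAffine c.pt.left) : Sq a D c := by
  -- the fibre over a section at stage `k`
  have key : ∀ (k : I) (z : G.obj (op (D.obj k))),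
      (∀ x : F.obj (op c.pt), a.app _ x = G.map (c.π.app k).op z →
        ∃ (j : I) (f : j ⟶ k) (w : F.obj (op (D.obj j))),
          a.app _ w = G.map (D.map f).op z ∧ F.map (c.π.app j).op w = x) ∧
      (∀ (x x' : F.obj (op (D.obj k))), a.app _ x = z → a.app _ x' = z →
        F.map (c.π.app k).op x = F.map (c.π.app k).op x' →
        ∃ (j : I) (f : j ⟶ k), F.map (D.map f).op x = F.map (D.map f).op x') := by
    intro k z
    let T : Over S := D.obj k
    let E : Over k ⥤ Over T.left :=
      { obj := fun j => Over.mk (D.map j.hom).left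
        map := fun {j j'} φ => Over.homMk (D.map φ.left).left (by
          have := congrArg CommaMorphism.left
            ((D.map_comp φ.left j'.hom).symm.trans (congrArg D.map (Over.w φ)))
          simpa using this)
        map_id := fun j => by ext; simp
        map_comp := fun φ ψ => by ext; simp }
    let cE : Cone E :=
      { pt := Over.mk (c.π.app k).left
        π := { app := fun j => Over.homMk (c.π.app j.left).left
                 (congrArg CommaMorphism.left (c.w j.hom))
               naturality := fun {j j'} φ => by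
                 ext
                 change Over.Hom.left (c.π.app j'.left) =
                   Over.Hom.left (c.π.app j.left) ≫ Over.Hom.left (D.map φ.left)
                 exact (congrArg CommaMorphism.left (c.w φ.left)).symm } }
    have hlim : IsLimit ((Over.forget T.left).mapCone cE) := by
      refine IsLimit.equivIsoLimit ?_ ((Functor.Initial.isLimitWhiskerEquiv (Over.forget k) _).symm hc)
      exact Cone.ext (Iso.refl _) (fun j => (Category.id_comp _).symm)
    obtain ⟨hcol⟩ := h T z E cE hlim (fun j => hD j.left) hT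
    -- translate between `Over.map T.hom` and the original objects
    let e : ∀ j : Over k, (Over.map T.hom).obj (E.obj j) ≅ D.obj j.left := fun j =>
      Over.isoMk (Iso.refl _) (by simpa [E, T] using (Over.w (D.map j.hom)).symm)
    let ec : (Over.map T.hom).obj cE.pt ≅ c.pt :=
      Over.isoMk (Iso.refl _) (by simpa [cE, T] using (Over.w (c.π.app k)).symm)
    have e_over : ∀ j : Over k, overHom T (E.obj j) = (e j).hom ≫ D.map j.hom := fun j => by
      ext; simp [e, E]
    have ec_over : overHom T cE.pt = ec.hom ≫ c.π.app k := by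
      ext; simp [ec, cE]
    have e_π : ∀ j : Over k, (Over.map T.hom).map (cE.π.app j) ≫ (e j).hom = ec.hom ≫ c.π.app j.left :=
      fun j => by ext; simp [e, ec, cE, E]
    refine ⟨fun x hx => ?_, fun x x' hx hx' hxx' => ?_⟩
    · obtain ⟨j, w, hw⟩ := Types.jointly_surjective _ hcol
        (⟨F.map ec.hom.op x, by
          rw [NatTrans.naturality_apply, hx, ← Functor.map_comp_apply, ← op_comp, ← ec_over]⟩ :
          (fiberFun a T z).obj (op cE.pt))
      refine ⟨j.unop.left, j.unop.hom, F.map (e j.unop).inv.op w.1, ?_, ?_⟩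
      · refine (NatTrans.naturality_apply a _ _).trans ?_
        erw [w.2]
        rw [← Functor.map_comp_apply, ← op_comp]
        refine congrArg (fun φ => G.map (Quiver.Hom.op φ) z) ?_
        exact (congrArg ((e j.unop).inv ≫ ·) (e_over j.unop)).trans (Iso.inv_hom_id_assoc _ _)
      · have hw' : F.map ((Over.map T.hom).map (cE.π.app j.unop)).op w.1 = F.map ec.hom.op x :=
          congrArg Subtype.val hw
        have hq : c.π.app j.unop.left ≫ (e j.unop).inv =
            ec.inv ≫ (Over.map T.hom).map (cE.π.app j.unop) := by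
          rw [Iso.comp_inv_eq, Category.assoc, e_π, Iso.inv_hom_id_assoc]
        rw [← Functor.map_comp_apply, ← op_comp, hq, op_comp, Functor.map_comp_apply, hw',
          ← Functor.map_comp_apply, ← op_comp, Iso.inv_hom_id]
        simp
    · let k₀ : Over k := Over.mk (𝟙 k)
      have mem : ∀ y : F.obj (op (D.obj k)), a.app _ y = z →
          a.app _ (F.map (e k₀).hom.op y) = G.map (overHom T (E.obj k₀)).op z := fun y hy => by
        rw [e_over, op_comp, Functor.map_comp_apply]
        refine (NatTrans.naturality_apply a _ _).trans ?_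
        congr 1
        change a.app _ y = _
        simp [k₀, hy]
        rw [G.map_id]
        rfl
      obtain ⟨j, f, g, hfg⟩ := (Types.FilteredColimit.isColimit_eq_iff _ hcol (i := op k₀)
        (j := op k₀) (xi := ⟨F.map (e k₀).hom.op x, mem x hx⟩)
        (xj := ⟨F.map (e k₀).hom.op x', mem x' hx'⟩)).mp (by
          apply Subtype.ext
          change F.map _ (F.map _ x) = F.map _ (F.map _ x')
          rw [← Functor.map_comp_apply, ← Functor.map_comp_apply, ← op_comp]
          erw [e_π, op_comp]
          rw [Functor.map_comp_apply, Functor.map_comp_apply]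
          exact congrArg _ hxx')
      refine ⟨j.unop.left, j.unop.hom, ?_⟩
      have hq : ∀ φ : j.unop ⟶ k₀, D.map j.unop.hom =
          (e j.unop).inv ≫ (Over.map T.hom).map (E.map φ) ≫ (e k₀).hom := fun φ => by
        rw [Iso.eq_inv_comp]
        have h1 := congrArg CommaMorphism.left (congrArg D.map (Over.w φ))
        ext
        simpa [e, E, k₀] using h1.symm
      have hfg' : F.map ((Over.map T.hom).map (E.map f.unop)).op (F.map (e k₀).hom.op x) =
          F.map ((Over.map T.hom).map (E.map g.unop)).op (F.map (e k₀).hom.op x') :=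
        congrArg Subtype.val hfg
      conv_lhs => rw [hq f.unop]
      conv_rhs => rw [hq g.unop]
      simp only [op_comp, Functor.map_comp_apply]
      rw [hfg']
  rw [Sq, Types.isPullback_iff]
  refine ⟨sq_comm a D c, ?_, ?_⟩
  · rintro p q ⟨h1, h2⟩
    obtain ⟨i, x, rfl⟩ := Types.jointly_surjective' p
    obtain ⟨j, x', rfl⟩ := Types.jointly_surjective' q
    rw [colimMap_ι_apply, colimMap_ι_apply] at h1
    rw [desc_ι_apply, desc_ι_apply] at h2
    obtain ⟨m, f, g, hfg⟩ := (Types.FilteredColimit.colimit_eq_iff _).mp h1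
    have hA : a.app _ (F.map (D.map f.unop).op x) = G.map (D.map f.unop).op (a.app _ x) :=
      NatTrans.naturality_apply a _ _
    obtain ⟨m', t, ht⟩ := (key m.unop (a.app _ (F.map (D.map f.unop).op x))).2
      (F.map (D.map f.unop).op x) (F.map (D.map g.unop).op x') rfl
      ((NatTrans.naturality_apply a _ _).trans (hfg.symm.trans hA.symm))
      (by rw [← Functor.map_comp_apply, ← Functor.map_comp_apply, ← op_comp, ← op_comp, c.w, c.w]
          exact h2)
    rw [Types.FilteredColimit.colimit_eq_iff]
    refine ⟨op m', f ≫ t.op, g ≫ t.op, ?_⟩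
    rw [Functor.map_comp_apply, Functor.map_comp_apply]
    exact ht
  · intro p x hpx
    obtain ⟨i, z, rfl⟩ := Types.jointly_surjective' p
    rw [desc_ι_apply] at hpx
    obtain ⟨j, f, w, hw1, hw2⟩ := (key i.unop z).1 x hpx.symm
    refine ⟨colimit.ι (D.op ⋙ F) (op j) w, ?_, ?_⟩
    · rw [colimMap_ι_apply, Types.FilteredColimit.colimit_eq_iff]
      exact ⟨op j, 𝟙 _, f.op, by simpa using hw1⟩
    · rw [desc_ι_apply]; exact hw2

theorem iff_sq : IsRelLimitPreserving a ↔
    ∀ ⦃I : Type u⦄ [SmallCategory I] [IsCofiltered I] (D : I ⥤ Over S) (c : Cone D),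
      IsLimit ((Over.forget S).mapCone c) → (∀ i, IsAffine (D.obj i).left) → IsAffine c.pt.left →
        Sq a D c :=
  ⟨fun h _ _ _ D c hc hD hT => sq_of a h D c hc hD hT, of_sq a⟩

end

theorem colimMap_comp {F G H : PSp S} (a : F ⟶ G) (b : G ⟶ H) {I : Type u} [SmallCategory I]
    (D : I ⥤ Over S) :
    colimMap (Functor.whiskerLeft D.op a) ≫ colimMap (Functor.whiskerLeft D.op b) =
      colimMap (Functor.whiskerLeft D.op (a ≫ b)) := by
  refine colimit.hom_ext fun i => ?_
  simp

theorem comp {F G H : PSp S} (a : F ⟶ G) (b : G ⟶ H) (ha : IsRelLimitPreserving a)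
    (hb : IsRelLimitPreserving b) : IsRelLimitPreserving (a ≫ b) := by
  refine of_sq _ fun I _ _ D c hc hD hT => ?_
  have h := IsPullback.paste_horiz (sq_of a ha D c hc hD hT) (sq_of b hb D c hc hD hT)
  rwa [colimMap_comp] at h

theorem of_comp {F G H : PSp S} (a : F ⟶ G) (b : G ⟶ H) (hab : IsRelLimitPreserving (a ≫ b))
    (hb : IsRelLimitPreserving b) : IsRelLimitPreserving a := by
  refine of_sq _ fun I _ _ D c hc hD hT => ?_
  refine IsPullback.of_right (h₁₂ := colimMap (Functor.whiskerLeft D.op b)) (h₂₂ := b.app _) ?_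
    (sq_comm a D c) (sq_of b hb D c hc hD hT)
  rw [colimMap_comp]
  exact sq_of (a ≫ b) hab D c hc hD hT

theorem of_isPullback {F G H P : PSp S} {a : F ⟶ G} {b : H ⟶ G} {fst : P ⟶ F} {snd : P ⟶ H}
    (hP : IsPullback fst snd a b) (hb : IsRelLimitPreserving b) : IsRelLimitPreserving fst := by
  intro T y
  refine (hb T (a.app _ y)).of_iso ?_
  have hPt : ∀ W : (Over S)ᵒᵖ, IsPullback (fst.app W) (snd.app W) (a.app W) (b.app W) :=
    fun W => hP.map ((evaluation _ _).obj W)
  symm
  refine NatIso.ofComponents (fun T' => Equiv.toIso (Equiv.ofBijective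
    (fun p => (⟨snd.app _ p.1, ?_⟩ : (fiberFun b T (a.app _ y)).obj T')) ⟨?_, ?_⟩)) ?_
  · refine (ConcreteCategory.congr_hom (hPt _).w p.1).symm.trans ?_
    change a.app _ (fst.app _ p.1) = _
    rw [p.2]
    exact NatTrans.naturality_apply a _ _
  · intro p q hpq
    exact Subtype.ext (Types.ext_of_isPullback (hPt _) (p.2.trans q.2.symm)
      (congrArg Subtype.val hpq))
  · intro w
    obtain ⟨p, hp1, hp2⟩ := Types.exists_of_isPullback (hPt _)
      (F.map (overHom T T'.unop).op y) w.1 (by
      refine (NatTrans.naturality_apply a _ _).trans w.2.symm)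
    exact ⟨⟨p, hp1⟩, Subtype.ext hp2⟩
  · intro T' T'' g
    ext p
    apply Subtype.ext
    exact NatTrans.naturality_apply snd _ _

end Groth.Agent.AlgSpRelLim
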